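import Cfsg.Agent.Lib.Grp.Tits.D0

set_option autoImplicit false
set_option maxRecDepth 100000
set_option Elab.async false
set_option linter.unusedSectionVars false

namespace Cfsg.Agent.CG.Tits

noncomputable def tabs : List ℕ := [t0,t1,t2,t3,t4,t5,t6,t7,t8,t9,t10,t11,t12,t13,t14,t15,t16,t17,t18,t19,t20,t21,t22,t23,t24,t25,t26,t27,t28,t29,t30,t31,t32,t33,t34,t35,t36,t37,t38,t39,t40,t41,t42,t43,t44,t45,t46,t47,t48,t49,t50,t51,t52,t53,t54,t55,t56,t57,t58]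
noncomputable abbrev app : ℕ → ℕ → ℕ := appT tabs t59 0xffff
noncomputable def slpL : List (Bool × List ℕ) := [(false,[]),
  (false,[]),
  (false,[]),
  (false,[1,1]),
  (true,[3]),
  (false,[1,1,1,0,1]),
  (true,[5]),
  (false,[5,5,5,5,5,5,5,5]),
  (false,[3]),
  (true,[8]),
  (false,[1,4,0,5,0,6,2,4,0,7,0,3,1,5,0,6,0,3,2]),
  (false,[8,8,8,8,10]),
  (true,[11]),
  (false,[8,11,9,11]),
  (true,[13]),
  (false,[11,8,13]),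
  (true,[15]),
  (false,[16,14,11,13,10]),
  (true,[17]),
  (false,[14,11,15,8,13]),
  (true,[19]),
  (false,[18,18,18,19]),
  (true,[21]),
  (false,[17,20,20,17,17]),
  (true,[23]),
  (false,[24,21,21]),
  (true,[25]),
  (false,[21,23,21]),
  (true,[27]),
  (false,[24,22,22]),
  (true,[29]),
  (false,[26,27]),
  (true,[31]),
  (false,[26,28]),
  (true,[33]),
  (false,[26,30]),
  (false,[26,29]),
  (false,[35]),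
  (false,[32,33]),
  (false,[36]),
  (false,[32,34]),
  (false,[32,32]),
  (false,[40]),
  (false,[37,39]),
  (false,[38,41]),
  (false,[44]),
  (false,[45]),
  (false,[43,42,45]),
  (false,[42]),
  (false,[38,37,43]),
  (false,[37]),
  (false,[31,43]),
  (true,[51]),
  (false,[25,37,43]),
  (true,[53]),
  (false,[22,37,43,42,45]),
  (true,[55]),
  (false,[18,20,23,25,38,42]),
  (false,[13,11,15,11,17,17,21,31,43,42,45])]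
noncomputable def slp (a : ℕ) : Bool × List ℕ := nth slpL (false, []) a
noncomputable def invL : List ℕ := [0,2,1,4,3,6,5,7,9,8,10,12,11,14,13,16,15,18,17,20,19,22,21,24,23,26,25,28,27,30,29,32,31,34,33,35,36,37,38,39,40,41,42,43,44,45,46,47,48,49,50,52,51,54,53,56,55,57,58]
noncomputable def inv (a : ℕ) : ℕ := nth invL 59 a
noncomputable def bs : List ℕ := [11696,12208,11728,13232,13264,11792,11712,12064]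
noncomputable def mc0 : Lvl := ⟨11696, [8,9,10,11,12,13,14,15,16], 1755,
  fun i => look 0xffff mc0c (Nat.mul 16 i), fun i => look 0xfff mc0p (Nat.mul 12 i),
  fun i => look 0xff mc0l (Nat.mul 8 i), fun i => look 0xff mc0i (Nat.mul 8 i), fun x => look 0xffff mc0q x, 5⟩
noncomputable def mc1 : Lvl := ⟨12208, [17,18,19,20], 10,
  fun i => look 0xffff mc1c (Nat.mul 16 i), fun i => look 0xf mc1p (Nat.mul 4 i),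
  fun i => look 0xff mc1l (Nat.mul 8 i), fun i => look 0xff mc1i (Nat.mul 8 i), fun x => look 0xffff mc1q x, 2⟩
noncomputable def mc2 : Lvl := ⟨11728, [21,22,23,24], 8,
  fun i => look 0xffff mc2c (Nat.mul 16 i), fun i => look 0xf mc2p (Nat.mul 4 i),
  fun i => look 0xff mc2l (Nat.mul 8 i), fun i => look 0xff mc2i (Nat.mul 8 i), fun x => look 0xffff mc2q x, 2⟩
noncomputable def mc3 : Lvl := ⟨13232, [25,26], 2,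
  fun i => look 0xffff mc3c (Nat.mul 16 i), fun i => look 0xf mc3p (Nat.mul 4 i),
  fun i => look 0xff mc3l (Nat.mul 8 i), fun i => look 0xff mc3i (Nat.mul 8 i), fun x => look 0xffff mc3q x, 1⟩
noncomputable def mc4 : Lvl := ⟨13264, [31,32], 2,
  fun i => look 0xffff mc4c (Nat.mul 16 i), fun i => look 0xf mc4p (Nat.mul 4 i),
  fun i => look 0xff mc4l (Nat.mul 8 i), fun i => look 0xff mc4i (Nat.mul 8 i), fun x => look 0xffff mc4q x, 1⟩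
noncomputable def mc5 : Lvl := ⟨11792, [37,38], 4,
  fun i => look 0xffff mc5c (Nat.mul 16 i), fun i => look 0xf mc5p (Nat.mul 4 i),
  fun i => look 0xff mc5l (Nat.mul 8 i), fun i => look 0xff mc5i (Nat.mul 8 i), fun x => look 0xffff mc5q x, 2⟩
noncomputable def mc6 : Lvl := ⟨11712, [42,43], 4,
  fun i => look 0xffff mc6c (Nat.mul 16 i), fun i => look 0xf mc6p (Nat.mul 4 i),
  fun i => look 0xff mc6l (Nat.mul 8 i), fun i => look 0xff mc6i (Nat.mul 8 i), fun x => look 0xffff mc6q x, 2⟩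
noncomputable def mc7 : Lvl := ⟨12064, [45], 2,
  fun i => look 0xffff mc7c (Nat.mul 16 i), fun i => look 0xf mc7p (Nat.mul 4 i),
  fun i => look 0xff mc7l (Nat.mul 8 i), fun i => look 0xff mc7i (Nat.mul 8 i), fun x => look 0xffff mc7q x, 1⟩
noncomputable def mc : List Lvl := [mc0, mc1, mc2, mc3, mc4, mc5, mc6, mc7]
noncomputable def tcR : List (List ℕ) := [[46,46],
  [47,47],
  [48,48],
  [47,46,47,46],
  [48,46,48,46],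
  [47,48,47,48],
  [49,49],
  [50,50],
  [49,46,49,46],
  [50,46,50,46],
  [49,47,49,47],
  [50,47,50,47],
  [49,48,49,48],
  [50,48,50,48],
  [49,50,49,50],
  [51,52],
  [52,51],
  [52,46,51,48],
  [52,47,51,47],
  [52,48,51,46],
  [52,50,51,50],
  [51,51,47,48,49,50],
  [53,54],
  [54,53],
  [54,46,53,46],
  [54,47,53,47],
  [54,48,53,48],
  [54,50,53,50],
  [53,53,46,47,48],
  [54,49,53,46,48,49],
  [54,51,53,46,47,52],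
  [55,56],
  [56,55],
  [55,46,56,50],
  [56,49,55,50],
  [56,46,55,47,48,49],
  [56,47,55,46,47,50],
  [56,48,55,46,47,49],
  [55,54,56,50,52,54],
  [47,55,48,55,55,55],
  [56,56,51,55,55,46,48,52],
  [57,57],
  [57,47,48,51,57,49,56],
  [57,54,51,53,57,49,56],
  [57,53,51,54,57,49,56],
  [57,53,57,54,57,46,47,48],
  [57,46,53,53,51,57,49,56],
  [57,47,55,57,46,49,52,56,56],
  [57,55,46,57,48,50,56,52,55],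
  [58,58],
  [58,50,58,50],
  [58,46,58,47,48,49],
  [58,48,58,46,47,49],
  [58,51,51,58,46,50],
  [58,52,54,58,52,54],
  [58,56,46,55,58,46],
  [58,56,48,55,58,48],
  [58,55,49,56,58,46],
  [58,47,58,46,48,49,50],
  [58,56,58,55,55,58,47,55],
  [55,58,55,52,53,56,58,56,51],
  [49,58,57,58,57,58,49,57,47,58,47,57]]
noncomputable def tc0T : List ℕ := [0,0,0,0,0,0,0,0,0,0,0,0,0,0,0,0,0,0,0,0,0,0,0,0,0,0,0,0,0,0,0,0,0,0,0,0,0,0,0,0,0,0,0,0,0,0,tc0t46,tc0t47,tc0t48,tc0t49,tc0t50,tc0t51,tc0t52,tc0t53,tc0t54,tc0t55,tc0t56,tc0t57,tc0t58]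
noncomputable def tc0r : Tr Rule := (.node (.node (.node (.node (.node (.node (.node (.node (.node (.leaf ⟨58,[58],49,1⟩) (.leaf ⟨47,[57,49,58,57,58,57,58,49,57,47,58],61,10⟩)) (.leaf ⟨56,[47,55,46,47,50],36,0⟩)) (.node (.leaf ⟨54,[58,52,54,58,52],54,5⟩) (.leaf ⟨55,[58,48,58,56,48],56,3⟩))) (.node (.node (.leaf ⟨49,[50,49,50],14,2⟩) (.leaf ⟨56,[58,46,58,55,49],57,3⟩)) (.node (.leaf ⟨58,[47,55,58,56,58,55,55],59,5⟩) (.leaf ⟨53,[53,51,57,49,56,57,46],46,2⟩)))) (.node (.node (.node (.node (.leaf ⟨47,[54,47,53],25,3⟩) (.leaf ⟨52,[56,56,57,47,55,57,46,49],47,6⟩)) (.leaf ⟨55,[50,56,49],34,2⟩)) (.node (.leaf ⟨51,[47,52,47],18,2⟩) (.leaf ⟨52,[54,58,52,54,58],54,1⟩))) (.node (.node (.leaf ⟨49,[56,57,47,48,51,57],42,5⟩) (.leaf ⟨47,[50,56,47,55,46],36,4⟩)) (.node (.leaf ⟨50,[53,50,54],27,1⟩) (.leaf ⟨55,[46,48,52,56,56,51,55],40,4⟩)))))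 (.node (.node (.node (.node (.node (.leaf ⟨49,[49],6,1⟩) (.leaf ⟨58,[46,48,49,50,58,47],58,2⟩)) (.leaf ⟨48,[49,48,49],12,1⟩)) (.node (.leaf ⟨47,[48,49,56,46,55],35,3⟩) (.leaf ⟨57,[54,51,53,57,49,56],43,0⟩))) (.node (.node (.leaf ⟨53,[46,54,46],24,2⟩) (.leaf ⟨50,[56,47,55,46,47],36,5⟩)) (.node (.leaf ⟨52,[54,55,54,56,50],38,4⟩) (.leaf ⟨57,[47,55,57,46,49,52,56,56],47,0⟩)))) (.node (.node (.node (.leaf ⟨46,[52,48,51],19,3⟩) (.leaf ⟨58,[46,50,58,51,51],53,3⟩)) (.node (.leaf ⟨48,[55,46,47,49,56],37,1⟩) (.leaf ⟨55,[49,56,58,46,58],57,1⟩))) (.node (.node (.leaf ⟨51,[51,58,46,50,58],53,1⟩) (.leaf ⟨54,[51,53,46,47,52],30,0⟩)) (.node (.leaf ⟨52,[50,51,50],20,0⟩) (.leaf ⟨52,[55,57,55,46,57,48,50,56],48,7⟩)))))) (.node (.node (.node (.node (.node (.node (.leaf ⟨57,[57],41,1⟩) (.leaf ⟨48,[57,53,57,54,57,46,47],45,7⟩)) (.leaf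 ⟨48,[50,48,50],13,1⟩)) (.node (.leaf ⟨47,[55,48,55,55,55],39,0⟩) (.leaf ⟨49,[56,57,46,53,53,51,57],46,6⟩))) (.node (.node (.leaf ⟨47,[48,53,53,46],28,3⟩) (.leaf ⟨55,[58,56,58,55,55,58,47],59,7⟩)) (.node (.leaf ⟨54,[55,54,56,50,52],38,5⟩) (.leaf ⟨55,[58,46,58,56,46],55,3⟩)))) (.node (.node (.node (.leaf ⟨50,[55,46,56],33,3⟩) (.leaf ⟨55,[54,56,50,52,54],38,0⟩)) (.node (.leaf ⟨53,[46,47,48,53],28,1⟩) (.leaf ⟨46,[48,52,56,56,51,55,55],40,5⟩))) (.node (.node (.leaf ⟨50,[47,50,47],11,2⟩) (.leaf ⟨49,[56,46,55,47,48],35,5⟩)) (.node (.leaf ⟨49,[46,49,46],8,0⟩) (.leaf ⟨55,[55,46,48,52,56,56,51],40,3⟩))))) (.node (.node (.node (.node (.node (.leaf ⟨53,[54],22,0⟩) (.leaf ⟨58,[56,51,55,58,55,52,53,56],60,6⟩)) (.leaf ⟨49,[47,49,47],10,2⟩)) (.node (.leaf ⟨51,[53,57,49,56,57,54],43,2⟩) (.leaf ⟨57,[47,48,51,57,49,56],42,0⟩)))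 (.node (.node (.leaf ⟨52,[54,51,53,46,47],30,5⟩) (.leaf ⟨51,[51,47,48,49,50],21,0⟩)) (.node (.leaf ⟨46,[58,55,49,56,58],57,5⟩) (.leaf ⟨47,[48,51,57,49,56,57],42,1⟩)))) (.node (.node (.node (.leaf ⟨47,[49,47,49],10,3⟩) (.leaf ⟨56,[48,55,46,47,49],37,0⟩)) (.node (.leaf ⟨56,[57,47,48,51,57,49],42,6⟩) (.leaf ⟨56,[51,55,55,46,48,52,56],40,1⟩))) (.node (.node (.leaf ⟨54,[56,50,52,54,55],38,1⟩) (.leaf ⟨58,[51,51,58,46,50],53,0⟩)) (.node (.leaf ⟨48,[49,50,51,51,47],21,3⟩) (.leaf ⟨49,[57,47,58,47,57,49,58,57,58,57,58],61,6⟩))))))) (.node (.node (.node (.node (.node (.node (.node (.leaf ⟨56,[55],31,1⟩) (.leaf ⟨58,[57,58,57,58,49,57,47,58,47,57,49],61,1⟩)) (.leaf ⟨55,[48,55,55,55,47],39,1⟩)) (.node (.leaf ⟨46,[55,58,46,58,56],55,2⟩) (.leaf ⟨58,[48,58,56,48,55],56,4⟩))) (.node (.node (.leaf ⟨46,[50,46,50],9,3⟩) (.leaf ⟨57,[53,51,54,57,49,56],44,0⟩))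 (.node (.leaf ⟨52,[53,56,58,56,51,55,58,55],60,3⟩) (.leaf ⟨58,[52,54,58,52,54],54,0⟩)))) (.node (.node (.node (.node (.leaf ⟨48,[54,48,53],26,3⟩) (.leaf ⟨58,[47,57,49,58,57,58,57,58,49,57,47],61,9⟩)) (.leaf ⟨56,[46,55,47,48,49],35,0⟩)) (.node (.leaf ⟨49,[50,58,47,58,46,48],58,5⟩) (.leaf ⟨56,[57,46,53,53,51,57,49],46,7⟩))) (.node (.node (.leaf ⟨50,[58,50,58],50,3⟩) (.leaf ⟨50,[47,50,47],11,0⟩)) (.node (.leaf ⟨47,[48,47,48],5,0⟩) (.leaf ⟨56,[56,57,47,55,57,46,49,52],47,7⟩))))) (.node (.node (.node (.node (.node (.leaf ⟨51,[52],15,0⟩) (.leaf ⟨46,[49,52,56,56,57,47,55,57],47,4⟩)) (.leaf ⟨53,[50,54,50],27,2⟩)) (.node (.leaf ⟨48,[49,56,46,55,47],35,4⟩) (.leaf ⟨57,[46,53,53,51,57,49,56],46,0⟩))) (.node (.node (.leaf ⟨49,[54,49,53,46,48],29,5⟩) (.leaf ⟨50,[46,50,46],9,0⟩)) (.node (.leaf ⟨56,[50,55,46],33,2⟩) (.leaf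 ⟨51,[57,49,56,57,46,53,53],46,4⟩)))) (.node (.node (.node (.leaf ⟨49,[55,50,56],34,1⟩) (.leaf ⟨54,[58,52,54,58,52],54,2⟩)) (.node (.leaf ⟨54,[47,53,47],25,0⟩) (.leaf ⟨49,[56,57,53,51,54,57],44,5⟩))) (.node (.node (.leaf ⟨51,[58,46,50,58,51],53,2⟩) (.leaf ⟨58,[47,48,49,58,46],51,2⟩)) (.node (.leaf ⟨51,[48,52,46],17,2⟩) (.leaf ⟨58,[49,57,47,58,47,57,49,58,57,58,57],61,5⟩)))))) (.node (.node (.node (.node (.node (.node (.leaf ⟨47,[47],1,1⟩) (.leaf ⟨53,[51,54,57,49,56,57],44,1⟩)) (.leaf ⟨46,[47,46,47],3,3⟩)) (.node (.leaf ⟨49,[56,58,46,58,55],57,2⟩) (.leaf ⟨54,[57,46,47,48,57,53,57],45,3⟩))) (.node (.node (.leaf ⟨48,[47,48,47],5,3⟩) (.leaf ⟨47,[46,47,46],3,0⟩)) (.node (.leaf ⟨53,[46,47,52,54,51],30,2⟩) (.leaf ⟨56,[58,55,55,58,47,55,58],59,1⟩)))) (.node (.node (.node (.leaf ⟨47,[51,47,52],18,1⟩) (.leaf ⟨58,[56,46,55,58,46],55,0⟩))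 (.node (.leaf ⟨55,[55,55,47,55,48],39,3⟩) (.leaf ⟨46,[47,48,57,53,57,54,57],45,5⟩))) (.node (.node (.leaf ⟨48,[58,46,47,49,58],52,1⟩) (.leaf ⟨49,[48,49,48],12,0⟩)) (.node (.leaf ⟨54,[50,53,50],27,0⟩) (.leaf ⟨56,[57,47,55,57,46,49,52,56],47,8⟩))))) (.node (.node (.node (.node (.node (.leaf ⟨46,[54,46,53],24,3⟩) (.leaf ⟨57,[48,50,56,52,55,57,55,46],48,3⟩)) (.leaf ⟨50,[48,50,48],13,0⟩)) (.node (.leaf ⟨53,[51,57,49,56,57,46,53],46,3⟩) (.leaf ⟨49,[58,48,58,46,47],52,5⟩))) (.node (.node (.leaf ⟨53,[53,46,47,48],28,0⟩) (.leaf ⟨46,[55,47,48,49,56],35,1⟩)) (.node (.leaf ⟨55,[46,56,50],33,0⟩) (.leaf ⟨58,[47,58,46,48,49,50],58,0⟩)))) (.node (.node (.node (.leaf ⟨48,[49,48,49],12,3⟩) (.leaf ⟨46,[47,48,53,53],28,2⟩)) (.node (.leaf ⟨47,[48,49,58,46,58],51,3⟩) (.leaf ⟨56,[57,54,51,53,57,49],43,6⟩))) (.node (.node (.leaf ⟨46,[50,46,50],9,1⟩)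 (.leaf ⟨56,[48,55,58,48,58],56,1⟩)) (.node (.leaf ⟨49,[48,49,48],12,2⟩) (.leaf ⟨57,[58,57,58,49,57,47,58,47,57,49,58],61,2⟩)))))))) (.node (.node (.node (.node (.node (.node (.node (.node (.leaf ⟨52,[51],15,1⟩) (.leaf ⟨49,[58,57,58,57,58,49,57,47,58,47,57],61,0⟩)) (.leaf ⟨56,[50,52,54,55,54],38,2⟩)) (.node (.leaf ⟨52,[54,58,52,54,58],54,4⟩) (.leaf ⟨55,[55,58,47,55,58,56,58],59,3⟩))) (.node (.node (.leaf ⟨50,[51,50,52],20,1⟩) (.leaf ⟨57,[49,56,57,54,51,53],43,4⟩)) (.node (.leaf ⟨58,[55,55,58,47,55,58,56],59,2⟩) (.leaf ⟨48,[49,50,58,47,58,46],58,4⟩)))) (.node (.node (.node (.node (.leaf ⟨47,[53,47,54],25,1⟩) (.leaf ⟨57,[49,58,57,58,57,58,49,57,47,58,47],61,11⟩)) (.leaf ⟨46,[48,46,48],4,1⟩)) (.node (.leaf ⟨57,[54,57,46,47,48,57,53],45,2⟩) (.leaf ⟨56,[57,53,51,54,57,49],44,6⟩))) (.node (.node (.leaf ⟨49,[56,57,54,51,53,57],43,5⟩)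 (.leaf ⟨50,[49,50,49],14,1⟩)) (.node (.leaf ⟨50,[54,50,53],27,3⟩) (.leaf ⟨49,[52,56,56,57,47,55,57,46],47,5⟩))))) (.node (.node (.node (.node (.node (.leaf ⟨50,[50],7,1⟩) (.leaf ⟨56,[56,51,55,55,46,48,52],40,0⟩)) (.leaf ⟨56,[49,55,50],34,0⟩)) (.node (.leaf ⟨47,[49,56,48,55,46],37,4⟩) (.leaf ⟨54,[51,53,57,49,56,57],43,1⟩))) (.node (.node (.leaf ⟨53,[48,54,48],26,2⟩) (.leaf ⟨48,[53,53,46,47],28,4⟩)) (.node (.leaf ⟨46,[49,46,49],8,3⟩) (.leaf ⟨46,[57,48,50,56,52,55,57,55],48,2⟩)))) (.node (.node (.node (.leaf ⟨50,[56,49,55],34,3⟩) (.leaf ⟨58,[50,58,50],50,2⟩)) (.node (.leaf ⟨54,[46,53,46],24,0⟩) (.leaf ⟨58,[46,58,47,48,49],51,0⟩))) (.node (.node (.leaf ⟨46,[50,58,51,51,58],53,4⟩) (.leaf ⟨58,[56,58,55,55,58,47,55],59,0⟩)) (.node (.leaf ⟨50,[48,50,48],13,2⟩) (.leaf ⟨57,[58,49,57,47,58,47,57,49,58,57,58],61,4⟩))))))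 (.node (.node (.node (.node (.node (.node (.leaf ⟨46,[46],0,1⟩) (.leaf ⟨46,[47,49,58,48,58],52,3⟩)) (.leaf ⟨48,[46,48,46],4,0⟩)) (.node (.leaf ⟨55,[46,57,48,50,56,52,55,57],48,1⟩) (.leaf ⟨57,[49,56,57,46,53,53,51],46,5⟩))) (.node (.node (.leaf ⟨46,[47,46,47],3,1⟩) (.leaf ⟨57,[46,47,48,57,53,57,54],45,4⟩)) (.node (.leaf ⟨58,[52,54,58,52,54],54,3⟩) (.leaf ⟨53,[46,48,49,54,49],29,2⟩)))) (.node (.node (.node (.leaf ⟨47,[52,47,51],18,3⟩) (.leaf ⟨55,[46,47,50,56,47],36,2⟩)) (.node (.leaf ⟨47,[55,46,47,50,56],36,1⟩) (.leaf ⟨47,[52,54,51,53,46],30,4⟩))) (.node (.node (.leaf ⟨46,[58,47,48,49,58],51,1⟩) (.leaf ⟨54,[49,53,46,48,49],29,0⟩)) (.node (.leaf ⟨50,[46,50,46],9,2⟩) (.leaf ⟨52,[56,56,51,55,55,46,48],40,7⟩))))) (.node (.node (.node (.node (.node (.leaf ⟨46,[48,46,48],4,3⟩) (.leaf ⟨58,[55,52,53,56,58,56,51,55],60,1⟩))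 (.leaf ⟨48,[58,56,48,55,58],56,5⟩)) (.node (.leaf ⟨51,[54,57,49,56,57,53],44,2⟩) (.leaf ⟨46,[53,53,51,57,49,56,57],46,1⟩))) (.node (.node (.leaf ⟨55,[47,55,48,55,55],39,5⟩) (.leaf ⟨51,[47,48,49,50,51],21,1⟩)) (.node (.leaf ⟨49,[50,49,50],14,0⟩) (.leaf ⟨48,[49,58,46,58,47],51,4⟩)))) (.node (.node (.node (.leaf ⟨47,[50,47,50],11,3⟩) (.leaf ⟨58,[55,49,56,58,46],57,0⟩)) (.node (.leaf ⟨55,[46,47,49,56,48],37,2⟩) (.leaf ⟨55,[58,47,55,58,56,58,55],59,4⟩))) (.node (.node (.leaf ⟨50,[58,51,51,58,46],53,5⟩) (.leaf ⟨58,[46,47,49,58,48],52,2⟩)) (.node (.leaf ⟨46,[49,46,49],8,1⟩) (.leaf ⟨58,[57,58,49,57,47,58,47,57,49,58,57],61,3⟩))))))) (.node (.node (.node (.node (.node (.node (.node (.leaf ⟨55,[56],31,0⟩) (.leaf ⟨53,[57,49,56,57,54,51],43,3⟩)) (.leaf ⟨47,[50,47,50],11,1⟩)) (.node (.leaf ⟨48,[55,58,48,58,56],56,2⟩) (.leaf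 ⟨58,[46,58,55,49,56],57,4⟩))) (.node (.node (.leaf ⟨48,[51,46,52],19,1⟩) (.leaf ⟨57,[53,57,54,57,46,47,48],45,0⟩)) (.node (.leaf ⟨51,[55,58,55,52,53,56,58,56],60,8⟩) (.leaf ⟨50,[52,54,55,54,56],38,3⟩)))) (.node (.node (.node (.leaf ⟨48,[53,48,54],26,1⟩) (.leaf ⟨58,[56,48,55,58,48],56,0⟩)) (.node (.leaf ⟨47,[58,46,48,49,50,58],58,1⟩) (.leaf ⟨58,[46,58,56,46,55],55,4⟩))) (.node (.node (.leaf ⟨46,[56,50,55],33,1⟩) (.leaf ⟨46,[47,50,56,47,55],36,3⟩)) (.node (.leaf ⟨54,[48,53,48],26,0⟩) (.leaf ⟨47,[48,49,50,51,51],21,2⟩))))) (.node (.node (.node (.node (.node (.leaf ⟨54,[53],22,1⟩) (.leaf ⟨57,[46,49,52,56,56,57,47,55],47,3⟩)) (.leaf ⟨49,[46,49,46],8,2⟩)) (.node (.leaf ⟨48,[51,57,49,56,57,47],42,2⟩) (.leaf ⟨53,[57,54,57,46,47,48,57],45,1⟩))) (.node (.node (.leaf ⟨47,[49,47,49],10,1⟩) (.leaf ⟨55,[55,47,55,48,55],39,4⟩))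 (.node (.leaf ⟨55,[47,48,49,56,46],35,2⟩) (.leaf ⟨47,[55,57,46,49,52,56,56,57],47,1⟩)))) (.node (.node (.node (.leaf ⟨47,[48,47,48],5,2⟩) (.leaf ⟨48,[47,48,47],5,1⟩)) (.node (.leaf ⟨53,[47,54,47],25,2⟩) (.leaf ⟨46,[47,49,56,48,55],37,3⟩))) (.node (.node (.leaf ⟨50,[52,50,51],20,3⟩) (.leaf ⟨58,[48,58,46,47,49],52,0⟩)) (.node (.leaf ⟨51,[46,52,48],19,2⟩) (.leaf ⟨57,[47,58,47,57,49,58,57,58,57,58,49],61,7⟩)))))) (.node (.node (.node (.node (.node (.node (.leaf ⟨48,[48],2,1⟩) (.leaf ⟨54,[57,49,56,57,53,51],44,3⟩)) (.leaf ⟨49,[47,49,47],10,0⟩)) (.node (.leaf ⟨48,[49,54,49,53,46],29,4⟩) (.leaf ⟨57,[49,56,57,53,51,54],44,4⟩))) (.node (.node (.leaf ⟨48,[46,48,46],4,2⟩) (.leaf ⟨49,[50,51,51,47,48],21,4⟩)) (.node (.leaf ⟨51,[53,46,47,52,54],30,1⟩) (.leaf ⟨46,[58,56,46,55,58],55,5⟩)))) (.node (.node (.node (.leaf ⟨46,[51,48,52],17,1⟩)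 (.leaf ⟨47,[46,47,46],3,2⟩)) (.node (.leaf ⟨48,[52,46,51],17,3⟩) (.leaf ⟨56,[46,55,58,46,58],55,1⟩))) (.node (.node (.leaf ⟨51,[55,55,46,48,52,56,56],40,2⟩) (.leaf ⟨47,[49,58,48,58,46],52,4⟩)) (.node (.leaf ⟨50,[49,50,49],14,3⟩) (.leaf ⟨53,[56,58,56,51,55,58,55,52],60,4⟩))))) (.node (.node (.node (.node (.node (.leaf ⟨46,[53,46,54],24,1⟩) (.leaf ⟨57,[55,46,57,48,50,56,52,55],48,0⟩)) (.leaf ⟨58,[50,58,50],50,0⟩)) (.node (.leaf ⟨52,[48,51,46],19,0⟩) (.leaf ⟨49,[58,46,58,47,48],51,5⟩))) (.node (.node (.leaf ⟨49,[53,46,48,49,54],29,1⟩) (.leaf ⟨48,[55,55,55,47,55],39,2⟩)) (.node (.leaf ⟨52,[46,51,48],17,0⟩) (.leaf ⟨57,[49,56,57,47,48,51],42,4⟩)))) (.node (.node (.node (.leaf ⟨48,[50,48,50],13,3⟩) (.leaf ⟨49,[56,48,55,46,47],37,5⟩)) (.node (.leaf ⟨55,[57,46,49,52,56,56,57,47],47,2⟩) (.leaf ⟨51,[57,49,56,57,47,48],42,3⟩)))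 (.node (.node (.leaf ⟨51,[50,52,50],20,2⟩) (.leaf ⟨50,[58,50,58],50,1⟩)) (.node (.leaf ⟨52,[47,51,47],18,0⟩) (.leaf ⟨47,[58,47,57,49,58,57,58,57,58,49,57],61,8⟩)))))))))
noncomputable def tc0 : TCL := ⟨[46,47,48,49,50,51,52,53,54,55,56,57,58], [46,47,48,49,50,51,52,53,54,55,56,57], 1755, 36, 0xffff, 16, 0x1ff,
  fun a x => look 0xfffffffff (nth tc0T 0 a) x, fun x => look 0xfffffffff tc0d x, tc0r⟩
noncomputable def tc1T : List ℕ := [0,0,0,0,0,0,0,0,0,0,0,0,0,0,0,0,0,0,0,0,0,0,0,0,0,0,0,0,0,0,0,0,0,0,0,0,0,0,0,0,0,0,0,0,0,0,tc1t46,tc1t47,tc1t48,tc1t49,tc1t50,tc1t51,tc1t52,tc1t53,tc1t54,tc1t55,tc1t56,tc1t57]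
noncomputable def tc1r : Tr Rule := (.node (.node (.node (.node (.node (.node (.leaf ⟨57,[57],41,1⟩) (.leaf ⟨50,[54,50,53],27,3⟩)) (.node (.leaf ⟨53,[51,57,49,56,57,46,53],46,3⟩) (.leaf ⟨57,[53,51,54,57,49,56],44,0⟩))) (.node (.node (.leaf ⟨48,[51,57,49,56,57,47],42,2⟩) (.leaf ⟨50,[46,50,46],9,2⟩)) (.leaf ⟨49,[49],6,1⟩))) (.node (.node (.node (.leaf ⟨54,[53],22,1⟩) (.leaf ⟨53,[46,54,46],24,2⟩)) (.node (.leaf ⟨50,[55,46,56],33,3⟩) (.leaf ⟨47,[48,53,53,46],28,3⟩))) (.node (.node (.leaf ⟨53,[53,46,47,48],28,0⟩) (.leaf ⟨49,[55,50,56],34,1⟩)) (.leaf ⟨46,[50,46,50],9,1⟩)))) (.node (.node (.node (.node (.leaf ⟨47,[47],1,1⟩) (.leaf ⟨56,[50,55,46],33,2⟩)) (.node (.leaf ⟨56,[55],31,1⟩) (.leaf ⟨46,[53,53,51,57,49,56,57],46,1⟩))) (.node (.node (.leaf ⟨52,[48,51,46],19,0⟩) (.leaf ⟨47,[53,47,54],25,1⟩)) (.leaf ⟨55,[56],31,0⟩)))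 (.node (.node (.node (.leaf ⟨46,[54,46,53],24,3⟩) (.leaf ⟨48,[54,48,53],26,3⟩)) (.leaf ⟨55,[54,56,50,52,54],38,0⟩)) (.node (.node (.leaf ⟨51,[54,57,49,56,57,53],44,2⟩) (.leaf ⟨57,[49,56,57,46,53,53,51],46,5⟩)) (.leaf ⟨49,[50,49,50],14,2⟩))))) (.node (.node (.node (.node (.node (.leaf ⟨46,[46],0,1⟩) (.leaf ⟨50,[53,50,54],27,1⟩)) (.node (.leaf ⟨55,[57,46,49,52,56,56,57,47],47,2⟩) (.leaf ⟨54,[57,46,47,48,57,53,57],45,3⟩))) (.node (.node (.leaf ⟨48,[48],2,1⟩) (.leaf ⟨47,[54,47,53],25,3⟩)) (.leaf ⟨56,[56,57,47,55,57,46,49,52],47,7⟩))) (.node (.node (.node (.leaf ⟨53,[54],22,0⟩) (.leaf ⟨54,[46,53,46],24,0⟩)) (.leaf ⟨50,[50],7,1⟩)) (.node (.node (.leaf ⟨51,[53,57,49,56,57,54],43,2⟩) (.leaf ⟨57,[46,47,48,57,53,57,54],45,4⟩)) (.leaf ⟨48,[50,48,50],13,3⟩)))) (.node (.node (.node (.node (.leaf ⟨52,[51],15,1⟩) (.leaf ⟨47,[46,47,46],3,0⟩))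 (.node (.leaf ⟨55,[46,57,48,50,56,52,55,57],48,1⟩) (.leaf ⟨48,[52,46,51],17,3⟩))) (.node (.node (.leaf ⟨51,[52],15,0⟩) (.leaf ⟨51,[48,52,46],17,2⟩)) (.leaf ⟨50,[56,49,55],34,3⟩))) (.node (.node (.node (.leaf ⟨46,[53,46,54],24,1⟩) (.leaf ⟨48,[53,48,54],26,1⟩)) (.leaf ⟨49,[56,57,47,48,51,57],42,5⟩)) (.node (.node (.leaf ⟨57,[54,57,46,47,48,57,53],45,2⟩) (.leaf ⟨57,[47,48,51,57,49,56],42,0⟩)) (.leaf ⟨52,[50,51,50],20,0⟩))))))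
noncomputable def tc1 : TCL := ⟨[46,47,48,49,50,51,52,53,54,55,56,57], [46,47,48,49,50,51,52,53,54,55,56], 10, 20, 0xff, 8, 0x3f,
  fun a x => look 0xfffff (nth tc1T 0 a) x, fun x => look 0xfffff tc1d x, tc1r⟩
noncomputable def tc2T : List ℕ := [0,0,0,0,0,0,0,0,0,0,0,0,0,0,0,0,0,0,0,0,0,0,0,0,0,0,0,0,0,0,0,0,0,0,0,0,0,0,0,0,0,0,0,0,0,0,tc2t46,tc2t47,tc2t48,tc2t49,tc2t50,tc2t51,tc2t52,tc2t53,tc2t54,tc2t55,tc2t56]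
noncomputable def tc2r : Tr Rule := (.node (.node (.node (.node (.node (.node (.leaf ⟨56,[55],31,1⟩) (.leaf ⟨51,[52],15,0⟩)) (.leaf ⟨48,[49,56,46,55,47],35,4⟩)) (.node (.leaf ⟨49,[55,50,56],34,1⟩) (.leaf ⟨55,[55,55,47,55,48],39,3⟩))) (.node (.node (.leaf ⟨46,[56,50,55],33,1⟩) (.leaf ⟨54,[56,50,52,54,55],38,1⟩)) (.node (.leaf ⟨47,[51,47,52],18,1⟩) (.leaf ⟨55,[55,46,48,52,56,56,51],40,3⟩)))) (.node (.node (.node (.leaf ⟨52,[51],15,1⟩) (.leaf ⟨49,[50,51,51,47,48],21,4⟩)) (.node (.leaf ⟨47,[50,56,47,55,46],36,4⟩) (.leaf ⟨51,[55,55,46,48,52,56,56],40,2⟩))) (.node (.node (.leaf ⟨48,[51,46,52],19,1⟩) (.leaf ⟨53,[46,47,52,54,51],30,2⟩)) (.node (.leaf ⟨48,[55,46,47,49,56],37,1⟩) (.leaf ⟨56,[56,51,55,55,46,48,52],40,0⟩))))) (.node (.node (.node (.node (.node (.leaf ⟨55,[56],31,0⟩) (.leaf ⟨51,[53,46,47,52,54],30,1⟩)) (.leaf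 ⟨51,[51,47,48,49,50],21,0⟩)) (.node (.leaf ⟨46,[55,47,48,49,56],35,1⟩) (.leaf ⟨55,[46,48,52,56,56,51,55],40,4⟩))) (.node (.node (.leaf ⟨50,[51,50,52],20,1⟩) (.leaf ⟨53,[54],22,0⟩)) (.node (.leaf ⟨49,[56,48,55,46,47],37,5⟩) (.leaf ⟨56,[51,55,55,46,48,52,56],40,1⟩)))) (.node (.node (.node (.leaf ⟨50,[55,46,56],33,3⟩) (.leaf ⟨54,[55,54,56,50,52],38,5⟩)) (.node (.leaf ⟨47,[55,46,47,50,56],36,1⟩) (.leaf ⟨52,[56,56,51,55,55,46,48],40,7⟩))) (.node (.node (.leaf ⟨50,[56,49,55],34,3⟩) (.leaf ⟨54,[53],22,1⟩)) (.node (.leaf ⟨46,[51,48,52],17,1⟩) (.leaf ⟨52,[54,55,54,56,50],38,4⟩))))))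
noncomputable def tc2 : TCL := ⟨[46,47,48,49,50,51,52,53,54,55,56], [46,47,48,49,50,51,52,53,54], 8, 20, 0xff, 8, 0x3f,
  fun a x => look 0xfffff (nth tc2T 0 a) x, fun x => look 0xfffff tc2d x, tc2r⟩
noncomputable def tc3T : List ℕ := [0,0,0,0,0,0,0,0,0,0,0,0,0,0,0,0,0,0,0,0,0,0,0,0,0,0,0,0,0,0,0,0,0,0,0,0,0,0,0,0,0,0,0,0,0,0,tc3t46,tc3t47,tc3t48,tc3t49,tc3t50,tc3t51,tc3t52,tc3t53,tc3t54]
noncomputable def tc3r : Tr Rule := (.node (.node (.node (.node (.leaf ⟨54,[53],22,1⟩) (.leaf ⟨51,[53,46,47,52,54],30,1⟩)) (.leaf ⟨50,[53,50,54],27,1⟩)) (.node (.leaf ⟨47,[53,47,54],25,1⟩) (.leaf ⟨49,[54,49,53,46,48],29,5⟩))) (.node (.node (.leaf ⟨46,[53,46,54],24,1⟩) (.leaf ⟨53,[46,47,48,53],28,1⟩)) (.node (.leaf ⟨48,[53,48,54],26,1⟩) (.leaf ⟨52,[54,51,53,46,47],30,5⟩))))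
noncomputable def tc3 : TCL := ⟨[46,47,48,49,50,51,52,53,54], [46,47,48,49,50,51,52], 2, 16, 0x3f, 6, 0xf,
  fun a x => look 0xffff (nth tc3T 0 a) x, fun x => look 0xffff tc3d x, tc3r⟩
noncomputable def tc4T : List ℕ := [0,0,0,0,0,0,0,0,0,0,0,0,0,0,0,0,0,0,0,0,0,0,0,0,0,0,0,0,0,0,0,0,0,0,0,0,0,0,0,0,0,0,0,0,0,0,tc4t46,tc4t47,tc4t48,tc4t49,tc4t50,tc4t51,tc4t52]
noncomputable def tc4r : Tr Rule := (.node (.node (.node (.leaf ⟨52,[51],15,1⟩) (.leaf ⟨50,[51,50,52],20,1⟩)) (.node (.leaf ⟨47,[51,47,52],18,1⟩) (.leaf ⟨49,[50,51,51,47,48],21,4⟩))) (.node (.node (.leaf ⟨46,[51,48,52],17,1⟩) (.leaf ⟨51,[51,47,48,49,50],21,0⟩)) (.leaf ⟨48,[51,46,52],19,1⟩)))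
noncomputable def tc4 : TCL := ⟨[46,47,48,49,50,51,52], [46,47,48,49,50], 2, 16, 0x3f, 6, 0xf,
  fun a x => look 0xffff (nth tc4T 0 a) x, fun x => look 0xffff tc4d x, tc4r⟩
noncomputable def tc5T : List ℕ := [0,0,0,0,0,0,0,0,0,0,0,0,0,0,0,0,0,0,0,0,0,0,0,0,0,0,0,0,0,0,0,0,0,0,0,0,0,0,0,0,0,0,0,0,0,0,tc5t46,tc5t47,tc5t48,tc5t49,tc5t50]
noncomputable def tc5r : Tr Rule := (.node (.node (.node (.node (.leaf ⟨49,[49],6,1⟩) (.leaf ⟨49,[50,49,50],14,2⟩)) (.leaf ⟨47,[49,47,49],10,3⟩)) (.node (.leaf ⟨46,[49,46,49],8,3⟩) (.leaf ⟨48,[49,48,49],12,3⟩))) (.node (.node (.leaf ⟨50,[50],7,1⟩) (.leaf ⟨47,[50,47,50],11,3⟩)) (.node (.leaf ⟨46,[50,46,50],9,3⟩) (.leaf ⟨48,[50,48,50],13,3⟩))))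
noncomputable def tc5 : TCL := ⟨[46,47,48,49,50], [46,47,48], 4, 16, 0x7f, 7, 0xf,
  fun a x => look 0xffff (nth tc5T 0 a) x, fun x => look 0xffff tc5d x, tc5r⟩
noncomputable def tc6T : List ℕ := [0,0,0,0,0,0,0,0,0,0,0,0,0,0,0,0,0,0,0,0,0,0,0,0,0,0,0,0,0,0,0,0,0,0,0,0,0,0,0,0,0,0,0,0,0,0,tc6t46,tc6t47,tc6t48]
noncomputable def tc6r : Tr Rule := (.node (.node (.node (.leaf ⟨47,[47],1,1⟩) (.leaf ⟨47,[48,47,48],5,2⟩)) (.leaf ⟨46,[47,46,47],3,3⟩)) (.node (.leaf ⟨48,[48],2,1⟩) (.leaf ⟨46,[48,46,48],4,3⟩)))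
noncomputable def tc6 : TCL := ⟨[46,47,48], [46], 4, 16, 0x7f, 7, 0x7,
  fun a x => look 0xffff (nth tc6T 0 a) x, fun x => look 0xffff tc6d x, tc6r⟩
noncomputable def tc7T : List ℕ := [0,0,0,0,0,0,0,0,0,0,0,0,0,0,0,0,0,0,0,0,0,0,0,0,0,0,0,0,0,0,0,0,0,0,0,0,0,0,0,0,0,0,0,0,0,0,tc7t46]
noncomputable def tc7r : Tr Rule := (.leaf ⟨46,[46],0,1⟩)
noncomputable def tc7 : TCL := ⟨[46], [], 2, 16, 0x3f, 6, 0x3,
  fun a x => look 0xffff (nth tc7T 0 a) x, fun x => look 0xffff tc7d x, tc7r⟩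
noncomputable def tc : List TCL := [tc0, tc1, tc2, tc3, tc4, tc5, tc6, tc7]
noncomputable def inW : List (List ℕ) := [[50,57,58,47,57,58,57,51,57,51,56,46],
  [53,57,55,58,53,57,55,51,55,51,50,48],
  [57,55,55,58,46,57,51,56,53,50,49,48,46]]
noncomputable def tcS : List ℕ := [46,47,48,49,50,51,52,53,54,55,56,57,58]

end Cfsg.Agent.CG.Tits
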